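import Groth.Agent.Lib.TowerML0.Main
import Groth.Agent.S15305
import Groth.Agent.Lib.OX.StalkTensor

/-!
# Countable towers and the tensor product with a flat module
-/

set_option autoImplicit false
set_option backward.isDefEq.respectTransparency false
set_option linter.style.haveILetI false

universe u

open CategoryTheory CategoryTheory.Limits AlgebraicGeometry Opposite TopologicalSpace MonoidalCategory
open GrothLib GrothLib.TowerML0
open Groth.Agent.S15305 (coimTower coimCone coimHom epi_lift_coim)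

noncomputable section

namespace GrothLib.TowerTensor0

variable {X : Scheme.{u}}

theorem mono_tensorRight {E : X.Modules} (hE : FlatMod.IsFlat E) {A B : X.Modules} (a : A ⟶ B) [Mono a] :
    Mono ((LimSh.tensorRight E).map a) := by
  show Mono (((DCoh.tensorBi (X := X)).map a).app E)
  refine (OX.mono_iff _).2 fun x => ?_
  haveI : Module.Flat (X.presheaf.stalk x) ((OX.stalk x).obj E) := (OX.flat_iff E).1 hE x
  have ha : Mono ((OX.stalk x).map a) := (OX.mono_iff a).1 inferInstance x
  have h1 : Mono ((OX.stalk x).map a ▷ (OX.stalk x).obj E) := by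
    rw [ModuleCat.mono_iff_injective] at ha ⊢
    exact Module.Flat.rTensor_preserves_injective_linearMap _ ha
  have e := OX.stalkTensorBiIso_natural₁ (x := x) a E
  rw [← Iso.eq_comp_inv] at e
  rw [e]
  exact mono_comp _ _

variable (F : ℕᵒᵖ ⥤ X.Modules)

/-- An element of a stable image extends to a compatible family. -/
theorem exists_compatible {G : ℕ → Type*} [∀ i, AddCommGroup (G i)] (f : ∀ {i j : ℕ}, i ≤ j → G j →+ G i)
    (hid : ∀ i (x : G i), f (le_refl i) x = x)
    (hc : ∀ {i j l : ℕ} (h₁ : i ≤ j) (h₂ : j ≤ l) (x : G l), f h₁ (f h₂ x) = f (h₁.trans h₂) x)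
    (m : ℕ → ℕ) (hm : ∀ n, n ≤ m n)
    (hst : ∀ n m' (hm' : m n ≤ m') (x : G (m n)), ∃ y, f ((hm n).trans hm') y = f (hm n) x)
    (n : ℕ) (x : G (m n)) :
    ∃ v : ∀ i, G i, (∀ i j (h : i ≤ j), f h (v j) = v i) ∧ v n = f (hm n) x := by
  have hnext : ∀ i (c : G i), (∀ M' (h : i ≤ M'), ∃ w, f h w = c) →
      ∃ d : G (i + 1), f (Nat.le_succ i) d = c ∧ ∀ M' (h : i + 1 ≤ M'), ∃ w, f h w = d := fun i c hcst => by
    obtain ⟨w, hw⟩ := hcst (m (i + 1)) ((Nat.le_succ i).trans (hm (i + 1)))
    refine ⟨f (hm (i + 1)) w, by rw [hc]; exact hw, fun M' h => ?_⟩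
    obtain ⟨y, hy⟩ := hst (i + 1) (max M' (m (i + 1))) (le_max_right _ _) w
    exact ⟨f (le_max_left _ _) y, by rw [hc]; exact hy⟩
  choose d hd hdst using hnext
  have h0 : ∀ M' (h : n ≤ M'), ∃ w, f h w = f (hm n) x := fun M' h => by
    obtain ⟨y, hy⟩ := hst n (max M' (m n)) (le_max_right _ _) x
    exact ⟨f (le_max_left _ _) y, by rw [hc]; exact hy⟩
  let seq : ∀ l, {c : G (n + l) // ∀ M' (h : n + l ≤ M'), ∃ w, f h w = c} := fun l =>
    Nat.rec ⟨f (hm n) x, h0⟩ (fun l c => ⟨d (n + l) c.1 c.2, hdst (n + l) c.1 c.2⟩) l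
  have key : ∀ l r, f (Nat.add_le_add_left (Nat.le_add_right l r) n) (seq (l + r)).1 = (seq l).1 := by
    intro l r
    induction r with
    | zero => exact hid _ _
    | succ r ih =>
      show f _ (d (n + (l + r)) _ _) = _
      rw [← ih]
      conv_rhs => rw [← hd (n + (l + r)) (seq (l + r)).1 (seq (l + r)).2]
      rw [hc]
      rfl
  refine ⟨fun i => f (Nat.le_add_left i n) (seq i).1, fun i j h => ?_, ?_⟩
  · obtain ⟨r, rfl⟩ := Nat.exists_eq_add_of_le h
    show f _ (f _ _) = f _ _
    rw [hc, ← key i r, hc]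
  · show f _ (seq n).1 = _
    rw [show (f (Nat.le_add_left n n)) (seq n).1 = f (Nat.le_add_right n n) (seq n).1 from rfl]
    have aux : ∀ (r j : ℕ) (e : 0 + r = j) (h : n ≤ n + j), f h (seq j).1 = (seq 0).1 := by
      rintro r j rfl h
      exact key 0 r
    exact aux n n (Nat.zero_add n) _

/-- A morphism vanishing on affine sections vanishes. -/
theorem eq_zero_of_app {M N : X.Modules} (φ : M ⟶ N)
    (h : ∀ (U : X.Opens), IsAffineOpen U → ∀ y : Γ(M, U), φ.app U y = 0) : φ = 0 := by
  refine (OX.eq_zero_iff φ).2 fun x => ModuleCat.hom_ext (LinearMap.ext fun e => ?_)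
  obtain ⟨W, hxW, s, rfl⟩ := TopCat.Presheaf.exists_germ_eq M.presheaf e
  obtain ⟨V, hV, hxV, hVW⟩ := exists_isAffineOpen_mem_and_subset hxW
  rw [← TopCat.Presheaf.germ_res_apply M.presheaf (homOfLE hVW) x hxV s]
  show QCoh.stalkLin φ x _ = 0
  rw [QCoh.stalkLin_germ, h V hV, map_zero]

variable (k : Type u) [Field k] [X.Over (Spec (CommRingCat.of k))]
  [LocallyOfFiniteType (X ↘ Spec (CommRingCat.of k))]

include k in
theorem exists_mono_pi [CompactSpace X] (hF : ∀ n : ℕ, Coh.IsQCoh (F.obj (op n))) (hL : Coh.IsQCoh (limit F))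
    (hLc : ∀ U : X.affineOpens, ∃ s : Set Γ(limit F, (U : X.Opens)),
      s.Countable ∧ Submodule.span Γ(X, (U : X.Opens)) s = ⊤) :
    ∃ N, ∀ n, N ≤ n → Mono (limit.π F (op n)) := by
  haveI : (limit F).IsQuasicoherent := hL
  let φ : limit F ⟶ limit F := 𝟙 _
  have hQ : ∀ n : ℕ, Coh.IsQCoh ((coimTower F φ).obj (op n)) := fun n => by
    haveI : (F.obj (op n)).IsQuasicoherent := hF n
    haveI := QCoh.isQuasicoherent_kernel (φ ≫ limit.π F (op n))
    exact QCoh.isQuasicoherent_cokernel _
  obtain ⟨N, hN⟩ := TowerDiag0.exists_isIso (coimTower F φ) (coimCone F φ) k hQ hL hLc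
    (fun n => inferInstanceAs (Epi (cokernel.π _))) (epi_lift_coim F φ)
  have hker : ∀ l, kernel.ι (φ ≫ limit.π F (op N)) ≫ (φ ≫ limit.π F (op l)) = 0 := by
    intro l
    rcases le_total l N with hl | hl
    · rw [← limit.w F (homOfLE hl).op, ← Category.assoc φ, ← Category.assoc, kernel.condition, zero_comp]
    obtain ⟨d, rfl⟩ := Nat.exists_eq_add_of_le hl
    have key : ∀ d, kernel.ι (φ ≫ limit.π F (op N)) ≫ cokernel.π (kernel.ι (φ ≫ limit.π F (op (N + d)))) = 0 := by
      intro d
      induction d with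
      | zero => exact cokernel.condition _
      | succ d ih =>
        haveI := hN (N + d) (Nat.le_add_right N d)
        have e : cokernel.π (kernel.ι (φ ≫ limit.π F (op (N + (d + 1))))) ≫
            (coimTower F φ).map (homOfLE (Nat.le_succ (N + d))).op =
            cokernel.π (kernel.ι (φ ≫ limit.π F (op (N + d)))) :=
          (coimCone F φ).w (homOfLE (Nat.le_succ (N + d))).op
        rw [← e, ← Category.assoc] at ih
        exact (cancel_mono ((coimTower F φ).map (homOfLE (Nat.le_succ (N + d))).op)).1 (ih.trans zero_comp.symm)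
    rw [← cokernel.π_desc (kernel.ι (φ ≫ limit.π F (op (N + d)))) _ (kernel.condition _), ← Category.assoc,
      key d, zero_comp]
  have hm : Mono (limit.π F (op N)) := by
    refine Preadditive.mono_of_cancel_zero _ fun {Z} g hg => limit.hom_ext fun j => ?_
    have h0 : g ≫ (φ ≫ limit.π F (op N)) = 0 := by rw [Category.id_comp]; exact hg
    have e := hker j.unop
    rw [← kernel.lift_ι (φ ≫ limit.π F (op N)) g h0, Category.assoc, zero_comp]
    rw [show limit.π F j = φ ≫ limit.π F (op j.unop) from (Category.id_comp _).symm, e, comp_zero]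
  refine ⟨N, fun n hn => ?_⟩
  exact mono_of_mono_fac (limit.w F (homOfLE hn).op)

/-- In a Mittag-Leffler tower a far transition map lands in the image of the limit. -/
theorem comp_cokernel_pi (hF : ∀ n : ℕ, Coh.IsQCoh (F.obj (op n))) (m : ℕ → ℕ) (hm : ∀ n, n ≤ m n)
    (hML : ∀ n (m' : ℕ) (hm' : m n ≤ m'),
      imageSubobject (F.map (homOfLE ((hm n).trans hm')).op) = imageSubobject (F.map (homOfLE (hm n)).op))
    (n : ℕ) : tr F (hm n) ≫ cokernel.π (limit.π F (op n)) = 0 := by
  haveI := fun l => hF l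
  refine eq_zero_of_app _ fun V hV x => ?_
  obtain ⟨v, hv, hvn⟩ := exists_compatible (G := fun i => Γ(F.obj (op i), V))
    (fun {i j} h => ((tr F h).app V).hom)
    (fun i z => by
      show (Scheme.Modules.Hom.app (F.map (𝟙 (op i))) V) z = z
      rw [CategoryTheory.Functor.map_id]
      rfl)
    (fun {i j l} h₁ h₂ z => by
      show (Scheme.Modules.Hom.app (tr F h₁) V) ((Scheme.Modules.Hom.app (tr F h₂) V) z) = _
      rw [← ConcreteCategory.comp_apply, ← Scheme.Modules.Hom.comp_app, tr_comp])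
    m hm
    (fun n m' hm' z => exists_app_eq (tr F ((hm n).trans hm')) hV _ (by
      show Scheme.Modules.Hom.app (cokernel.π (tr F ((hm n).trans hm'))) V ((tr F (hm n)).app V z) = 0
      rw [← ConcreteCategory.comp_apply, ← Scheme.Modules.Hom.comp_app, comp_cokernel_π_of_eq _ _ (hML n m' hm').symm,
        Scheme.Modules.Hom.zero_app]
      rfl))
    n x
  obtain ⟨σ, hσ⟩ := TowerDiag0.exists_section F V v hv
  rw [Scheme.Modules.Hom.comp_app, ConcreteCategory.comp_apply]
  show Scheme.Modules.Hom.app (cokernel.π (limit.π F (op n))) V ((tr F (hm n)).app V x) = 0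
  rw [show (tr F (hm n)).app V x = v n from hvn.symm, ← hσ n]
  exact app_cokernel_π _ _ _

include k in
theorem tensor_comparison [CompactSpace X] (hF : ∀ n : ℕ, Coh.IsQCoh (F.obj (op n)))
    (hFc : ∀ n : ℕ, ∀ U : X.affineOpens, ∃ s : Set Γ(F.obj (op n), (U : X.Opens)),
      s.Countable ∧ Submodule.span Γ(X, (U : X.Opens)) s = ⊤)
    (E : X.Modules) (hE : FlatMod.IsFlat E) (hL : Coh.IsQCoh (limit F))
    (hLc : ∀ U : X.affineOpens, ∃ s : Set Γ(limit F, (U : X.Opens)),
      s.Countable ∧ Submodule.span Γ(X, (U : X.Opens)) s = ⊤) :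
    Mono (limit.post F (LimSh.tensorRight E)) ∧
      (IsZero (LimSh.limOneSh F) → IsIso (limit.post F (LimSh.tensorRight E))) := by
  classical
  obtain ⟨N, hN⟩ := exists_mono_pi F k hF hL hLc
  let T := LimSh.tensorRight E
  have hmono : ∀ n, N ≤ n → Mono (T.map (limit.π F (op n))) := fun n hn =>
    haveI := hN n hn
    mono_tensorRight hE _
  have hM : Mono (limit.post F T) := by
    haveI := hmono N le_rfl
    exact mono_of_mono_fac (limit.post_π F T (op N))
  refine ⟨hM, fun h => ?_⟩
  choose m hm hML using mittagLeffler_of_countable F k hF hFc (OX.isQCoh_of_isZero h) (fun U =>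
    ⟨∅, Set.countable_empty, Submodule.eq_top_iff'.2 fun y => by
      have hy : y = 0 := by
        have e := congrArg (fun φ => (Scheme.Modules.Hom.app φ (U : X.Opens)) y) ((IsZero.iff_id_eq_zero _).1 h)
        simp at e; exact e
      rw [hy]
      exact Submodule.zero_mem _⟩)
  have hfac : ∀ n, N ≤ n → ∃ t : F.obj (op (m n)) ⟶ limit F, t ≫ limit.π F (op n) = tr F (hm n) := fun n hn =>
    haveI := hN n hn
    ⟨Abelian.monoLift _ _ (comp_cokernel_pi F hF m hm hML n), Abelian.monoLift_comp _ _ _⟩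
  choose t ht using hfac
  let β : limit (F ⋙ T) ⟶ T.obj (limit F) := limit.π (F ⋙ T) (op (m N)) ≫ T.map (t N le_rfl)
  have hw : ∀ {i j : ℕ} (h : i ≤ j), limit.π (F ⋙ T) (op j) ≫ T.map (tr F h) = limit.π (F ⋙ T) (op i) :=
    fun h => limit.w (F ⋙ T) (homOfLE h).op
  have hge : ∀ n, N ≤ n → β ≫ T.map (limit.π F (op n)) = limit.π (F ⋙ T) (op n) := by
    intro n hn
    let β' : limit (F ⋙ T) ⟶ T.obj (limit F) := limit.π (F ⋙ T) (op (m n)) ≫ T.map (t n hn)
    have e1 : β' ≫ T.map (limit.π F (op n)) = limit.π (F ⋙ T) (op n) := by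
      rw [Category.assoc, ← T.map_comp, ht]; exact hw _
    have e2 : β ≫ T.map (limit.π F (op N)) = limit.π (F ⋙ T) (op N) := by
      rw [Category.assoc, ← T.map_comp, ht]; exact hw _
    haveI := hmono N le_rfl
    have e3 : β' = β := (cancel_mono (T.map (limit.π F (op N)))).1 (by
      rw [e2, ← limit.w F (homOfLE hn).op, T.map_comp, ← Category.assoc, e1]
      exact hw hn)
    rw [← e3]; exact e1
  have hβ : β ≫ limit.post F T = 𝟙 _ := limit.hom_ext fun j => by
    obtain ⟨i⟩ := j
    rw [Category.assoc, limit.post_π, Category.id_comp, ← limit.w F (homOfLE (le_max_left i N)).op, T.map_comp,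
      ← Category.assoc, hge _ (le_max_right i N)]
    exact hw _
  haveI := hM
  exact ⟨β, (cancel_mono (limit.post F T)).1 (by rw [Category.assoc, hβ, Category.comp_id, Category.id_comp]), hβ⟩

end GrothLib.TowerTensor0
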